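import Groth.Agent.Lib.Curve17.FunctionField

/-!
# A morphism from compatible values on all stalks
-/

set_option autoImplicit false
set_option linter.style.haveILetI false
universe u

open CategoryTheory CategoryTheory.Limits AlgebraicGeometry TopologicalSpace

namespace Groth.Agent.GroupLaw17

variable {k : Type u} [Field k] {Y Z : Scheme.{u}} [IsIntegral Y]
  (pY : Y ⟶ Spec (CommRingCat.of k)) (pZ : Z ⟶ Spec (CommRingCat.of k))

/-- Values on the stalks restricting to the same value at the generic point glue. -/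
theorem exists_hom_of_stalks [LocallyOfFiniteType pY] [LocallyOfFiniteType pZ] [IsSeparated pZ]
    (φ : Spec Y.functionField ⟶ Z) (hφ : φ ≫ pZ = Y.fromSpecStalk (genericPoint Y) ≫ pY)
    (ψ : ∀ y : Y, Spec (Y.presheaf.stalk y) ⟶ Z) (hψ2 : ∀ y, ψ y ≫ pZ = Y.fromSpecStalk y ≫ pY)
    (hψ1 : ∀ y, Spec.map (Y.presheaf.stalkSpecializes (genericPoint_specializes y)) ≫ ψ y = φ) :
    ∃ h : Y ⟶ Z, h ≫ pZ = pY ∧ ∀ y, Y.fromSpecStalk y ≫ h = ψ y := by
  haveI : Z.IsSeparated := ⟨by
    rw [← terminal.comp_from pZ]; infer_instance⟩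
  let F : Y ⤏ Z := Scheme.RationalMap.ofFunctionField pY pZ φ hφ
  have hdom : F.domain = ⊤ := by
    refine top_le_iff.1 fun y _ => ?_
    rw [Scheme.RationalMap.mem_domain]
    refine ⟨Scheme.PartialMap.ofFromSpecStalk pY pZ (ψ y) (hψ2 y),
      Scheme.PartialMap.mem_domain_ofFromSpecStalk pY pZ (ψ y) (hψ2 y),
      Scheme.RationalMap.eq_of_fromFunctionField_eq _ _ ?_⟩
    rw [Scheme.RationalMap.fromFunctionField_ofFunctionField, Scheme.RationalMap.fromFunctionField_toRationalMap]
    set g := Scheme.PartialMap.ofFromSpecStalk pY pZ (ψ y) (hψ2 y)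
    have hy := Scheme.PartialMap.mem_domain_ofFromSpecStalk pY pZ (ψ y) (hψ2 y)
    have hg := Scheme.PartialMap.fromSpecStalkOfMem_ofFromSpecStalk pY pZ (ψ y) (hψ2 y)
    refine Eq.trans ?_ ((congrArg (fun t => Spec.map (Y.presheaf.stalkSpecializes (genericPoint_specializes y)) ≫ t) hg).trans (hψ1 y))
    change g.domain.fromSpecStalkOfMem (genericPoint Y) _ ≫ g.hom =
      Spec.map (Y.presheaf.stalkSpecializes (genericPoint_specializes y)) ≫
        g.domain.fromSpecStalkOfMem y hy ≫ g.hom
    rw [← Category.assoc]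
    congr 1
    rw [← cancel_mono g.domain.ι]
    simp
  have hFdom : F.toPartialMap.domain = ⊤ := hdom
  let h : Y ⟶ Z := (Scheme.topIso Y).inv ≫ (Y.isoOfEq hFdom).inv ≫ F.toPartialMap.hom
  have hgen : Y.fromSpecStalk (genericPoint Y) ≫ h = φ := by
    have h1 : F.toPartialMap.toRationalMap.fromFunctionField = φ := by
      rw [Scheme.RationalMap.toRationalMap_toPartialMap, Scheme.RationalMap.fromFunctionField_ofFunctionField]
    rw [Scheme.RationalMap.fromFunctionField_toRationalMap] at h1
    rw [← h1]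
    change _ = F.toPartialMap.domain.fromSpecStalkOfMem _ _ ≫ F.toPartialMap.hom
    simp only [h, ← Category.assoc]
    congr 1
    rw [← cancel_mono F.toPartialMap.domain.ι]
    simp
  refine ⟨h, ?_, fun y => ?_⟩
  · haveI : IsDominant (Y.fromSpecStalk (genericPoint Y)) := by
      refine ⟨fun y => ?_⟩
      refine closure_mono (s := {genericPoint Y}) (t := Set.range (Y.fromSpecStalk (genericPoint Y))) ?_
        (specializes_iff_mem_closure.1 (genericPoint_specializes y))
      rintro _ rfl
      exact ⟨_, Scheme.fromSpecStalk_closedPoint⟩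
    refine ext_of_isDominant_of_isSeparated (terminal.from _) (terminal.hom_ext _ _)
      (Y.fromSpecStalk (genericPoint Y)) ?_
    rw [← Category.assoc, hgen, hφ]
  · haveI : IsDominant (Spec.map (Y.presheaf.stalkSpecializes (genericPoint_specializes y))) :=
      ⟨(PrimeSpectrum.denseRange_comap_iff_ker_le_nilRadical _).2 (((RingHom.injective_iff_ker_eq_bot _).1
        (IsFractionRing.injective (Y.presheaf.stalk y) Y.functionField)).le.trans bot_le)⟩
    refine ext_of_isDominant_of_isSeparated (terminal.from _) (terminal.hom_ext _ _)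
      (Spec.map (Y.presheaf.stalkSpecializes (genericPoint_specializes y))) ?_
    rw [hψ1, Scheme.SpecMap_stalkSpecializes_fromSpecStalk_assoc, hgen]

end Groth.Agent.GroupLaw17
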