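import Groth.Agent.Lib.GroupLaw17.Point
import Groth.Agent.Lib.GroupLaw17.Extend

/-!
# The chord morphism of a smooth Weierstrass cubic
-/

set_option linter.style.haveILetI false
set_option autoImplicit false
set_option maxHeartbeats 800000
set_option backward.isDefEq.respectTransparency false
set_option backward.isDefEq.respectTransparency.types false

universe u

open CategoryTheory CategoryTheory.Limits AlgebraicGeometry TopologicalSpace

noncomputable section

namespace Groth.Agent.GroupLaw17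

variable {k : Type u} [Field k] (W : WeierstrassCurve k)

section Fld

variable {L : Type u} [Field L] [Algebra k L]

theorem F_smul_eq_zero {v : Fin 3 → L} (hv : F (WR W L) v = 0) (c : L) : F (WR W L) (c • v) = 0 := by
  rw [F_smul, hv, mul_zero]

theorem exists_smul_of_pointOf_eq {i j : Fin 3} {v w : Fin 3 → L} {hi : v i = 1} {hj : w j = 1}
    {hv : F (WR W L) v = 0} {hw : F (WR W L) w = 0} (h : pointOf W i v hi hv = pointOf W j w hj hw) :
    ∃ c : L, c ≠ 0 ∧ v = c • w := by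
  have h1 : GrassLib.vecMor (R := k) i v = GrassLib.vecMor (R := k) j w := by rw [← pointOf_emb W i v hi hv, ← pointOf_emb W j w hj hw, h]
  let q : PrimeSpectrum L := IsLocalRing.closedPoint L
  have hq : q.asIdeal = ⊥ := IsLocalRing.maximalIdeal_eq_bot
  have h2 : GrassLib.vecMor (R := k) j w q ∈ (ProjSpace.chart 2 k j).opensRange :=
    (GrassLib.vecMor_mem_range_chart j j w hj q).2 (by rw [hj, hq]; simp)
  rw [← h1] at h2
  have hvj : v j ≠ 0 := fun e => (GrassLib.vecMor_mem_range_chart i j v hi q).1 h2 (by rw [e]; exact zero_mem _)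
  refine ⟨v j, hvj, ?_⟩
  have hj' : ((v j)⁻¹ • v) j = 1 := inv_mul_cancel₀ hvj
  have hv' : F (WR W L) ((v j)⁻¹ • v) = 0 := F_smul_eq_zero W hv _
  have h3 : pointOf W j ((v j)⁻¹ • v) hj' hv' = pointOf W j w hj hw :=
    ((pointOf_change W hi hj' hv hv' fun l => by simp [hvj]).symm).trans h
  have h4 : ptHom W j ((v j)⁻¹ • v) hj' hv' = ptHom W j w hj hw :=
    GrassLib.sp_injective (A := LefPen13.A (emb W) j) ((cancel_mono (LefPen13.isAffineOpen_V (emb W) j).fromSpec).1 h3)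
  funext l
  have h5 := DFunLike.congr_fun h4 (PlaneFF17.chartAlgHom (form W) j (MvPolynomial.X l))
  rw [ptHom_chartAlgHom, ptHom_chartAlgHom, MvPolynomial.aeval_X, MvPolynomial.aeval_X] at h5
  rw [Pi.smul_apply, ← h5]
  simp [hvj]

/-- The third point on the chord through two distinct points. -/
def Chord (P₁ P₂ Q : Spec (CommRingCat.of L) ⟶ Sch W) : Prop :=
  ∃ (i : Fin 3) (v : Fin 3 → L) (hi : v i = 1) (hv : F (WR W L) v = 0)
    (j : Fin 3) (w : Fin 3 → L) (hj : w j = 1) (hw : F (WR W L) w = 0)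
    (l : Fin 3) (z : Fin 3 → L) (hl : z l = 1) (hz : F (WR W L) z = 0) (c : L),
    c ≠ 0 ∧ P₁ = pointOf W i v hi hv ∧ P₂ = pointOf W j w hj hw ∧ Q = pointOf W l z hl hz ∧
      res (WR W L) v w = c • z

theorem Chord.toBase {P₁ P₂ Q : Spec (CommRingCat.of L) ⟶ Sch W} (h : Chord W P₁ P₂ Q) :
    Q ≫ toBase W = GrassLib.str k L := by
  obtain ⟨i, v, hi, hv, j, w, hj, hw, l, z, hl, hz, c, hc, -, -, rfl, -⟩ := h
  exact pointOf_toBase W l z hl hz

theorem Chord.symm {P₁ P₂ Q : Spec (CommRingCat.of L) ⟶ Sch W} (h : Chord W P₁ P₂ Q) : Chord W P₂ P₁ Q := by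
  obtain ⟨i, v, hi, hv, j, w, hj, hw, l, z, hl, hz, c, hc, h1, h2, h3, hr⟩ := h
  exact ⟨j, w, hj, hw, i, v, hi, hv, l, z, hl, hz, -c, neg_ne_zero.2 hc, h2, h1, h3,
    by rw [res_swap, hr, neg_smul]⟩

theorem chord_of_res_ne_zero {i j : Fin 3} {v w : Fin 3 → L} (hi : v i = 1) (hv : F (WR W L) v = 0)
    (hj : w j = 1) (hw : F (WR W L) w = 0) (h : res (WR W L) v w ≠ 0) :
    ∃ Q, Chord W (pointOf W i v hi hv) (pointOf W j w hj hw) Q := by
  obtain ⟨l, hl⟩ : ∃ l, res (WR W L) v w l ≠ 0 := Function.ne_iff.1 h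
  exact ⟨_, i, v, hi, hv, j, w, hj, hw, l, (res (WR W L) v w l)⁻¹ • res (WR W L) v w, inv_mul_cancel₀ hl,
    F_smul_eq_zero W (F_res _ hv hw) _, _, hl, rfl, rfl, rfl, by rw [smul_smul, mul_inv_cancel₀ hl, one_smul]⟩

theorem Chord.eq_of_res {P₁ P₂ Q : Spec (CommRingCat.of L) ⟶ Sch W} (h : Chord W P₁ P₂ Q)
    {i j l : Fin 3} {v w z : Fin 3 → L} {hi : v i = 1} {hv : F (WR W L) v = 0}
    {hj : w j = 1} {hw : F (WR W L) w = 0} (hl : z l = 1) (hz : F (WR W L) z = 0) {c : L}
    (h₁ : P₁ = pointOf W i v hi hv) (h₂ : P₂ = pointOf W j w hj hw) (hr : res (WR W L) v w = c • z) :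
    Q = pointOf W l z hl hz := by
  obtain ⟨i', v', hi', hv', j', w', hj', hw', l', z', hl', hz', c', hc', h1, h2, rfl, hr'⟩ := h
  obtain ⟨a, ha, rfl⟩ := exists_smul_of_pointOf_eq W (h₁.symm.trans h1)
  obtain ⟨b, hb, rfl⟩ := exists_smul_of_pointOf_eq W (h₂.symm.trans h2)
  rw [res_smul, hr', smul_smul] at hr
  have hd : a ^ 2 * b ^ 2 * c' ≠ 0 := mul_ne_zero (mul_ne_zero (pow_ne_zero _ ha) (pow_ne_zero _ hb)) hc'
  have hc : c ≠ 0 := fun e => by
    have := congrFun hr l'
    rw [e] at this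
    simp [hl', ha, hb, hc'] at this
  have hzz : ∀ r, z r = c⁻¹ * (a ^ 2 * b ^ 2 * c') * z' r := fun r => by
    have := congrFun hr r
    simp only [Pi.smul_apply, smul_eq_mul] at this
    rw [mul_assoc, this, inv_mul_cancel_left₀ hc]
  exact (pointOf_change W hl hl' hz hz' fun r => by rw [hzz l', hl', mul_one, hzz r]).symm

theorem Chord.unique {P₁ P₂ Q Q' : Spec (CommRingCat.of L) ⟶ Sch W} (h : Chord W P₁ P₂ Q)
    (h' : Chord W P₁ P₂ Q') : Q = Q' := by
  obtain ⟨i, v, hi, hv, j, w, hj, hw, l, z, hl, hz, c, hc, h1, h2, rfl, hr⟩ := h'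
  exact h.eq_of_res W hl hz h1 h2 hr

/-- The chord through the first and the third point passes through the second. -/
theorem Chord.third {i j : Fin 3} {v w : Fin 3 → L} {hi : v i = 1} {hv : F (WR W L) v = 0}
    {hj : w j = 1} {hw : F (WR W L) w = 0} {Q : Spec (CommRingCat.of L) ⟶ Sch W}
    (h : Chord W (pointOf W i v hi hv) (pointOf W j w hj hw) Q) (hD : D (WR W L) v w ≠ 0) :
    Chord W (pointOf W i v hi hv) Q (pointOf W j w hj hw) := by
  obtain ⟨i', v', hi', hv', j', w', hj', hw', l, z, hl, hz, c, hc, h1, h2, rfl, hr⟩ := h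
  obtain ⟨a, ha, rfl⟩ := exists_smul_of_pointOf_eq W h1
  obtain ⟨b, hb, rfl⟩ := exists_smul_of_pointOf_eq W h2
  have hD' : D (WR W L) v' w' ≠ 0 := fun e => hD (by rw [D_smul_left, D_smul_right, e]; simp)
  refine ⟨i', v', hi', hv', l, z, hl, hz, j', w', hj', hw', -D (WR W L) v' w' ^ 3 / c ^ 2,
    div_ne_zero (neg_ne_zero.2 (pow_ne_zero _ hD')) (pow_ne_zero _ hc), h1, rfl, h2, ?_⟩
  have h3 := res_res (WR W L) (w := w') hv'
  have h4 := res_smul (WR W L) 1 c v' z
  rw [one_smul, ← hr, h3, one_pow, one_mul] at h4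
  rw [div_eq_inv_mul, ← smul_smul, h4, smul_smul, inv_mul_cancel₀ (pow_ne_zero _ hc), one_smul]

end Fld

variable (hns : ∀ v : Fin 3 → AlgebraicClosure k, v ≠ 0 → MvPolynomial.aeval v (form W).1 = 0 →
  ∃ l, MvPolynomial.aeval v (MvPolynomial.pderiv l (form W).1) ≠ 0)

include hns in
/-- Normalised residual coordinates over a local algebra. -/
theorem exists_residual_pt {R : Type u} [CommRing R] [IsLocalRing R] [Algebra k R] {i j : Fin 3} (v w : Fin 3 → R)
    (hi : v i = 1) (hv : F (WR W R) v = 0) (hj : w j = 1) (hw : F (WR W R) w = 0) :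
    ∃ (z : Fin 3 → R) (c : R) (l : Fin 3), z l = 1 ∧ F (WR W R) z = 0 ∧ res (WR W R) v w = c • z := by
  refine exists_residual (WR W R) (fun x hx hxF => ?_) v w hv hw hi hj
  letI : Algebra k (IsLocalRing.ResidueField R) := ((IsLocalRing.residue R).comp (algebraMap k R)).toAlgebra
  have e : (WR W R).map (IsLocalRing.residue R) = WR W (IsLocalRing.ResidueField R) := WeierstrassCurve.map_map _ _ _
  rw [e] at hxF ⊢
  exact exists_G_ne_zero W hns x hx hxF

theorem map_WR {R S : Type u} [CommRing R] [Algebra k R] [CommRing S] [Algebra k S] (φ : R →ₐ[k] S) :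
    (WR W R).map φ.toRingHom = WR W S := by
  rw [WeierstrassCurve.map_map]
  congr 1
  exact φ.comp_algebraMap

theorem res_comp {R S : Type u} [CommRing R] [Algebra k R] [CommRing S] [Algebra k S] (φ : R →ₐ[k] S)
    {v w z : Fin 3 → R} {c : R} (h : res (WR W R) v w = c • z) :
    res (WR W S) (φ ∘ v) (φ ∘ w) = φ c • (φ ∘ z) := by
  rw [← map_WR W φ]
  refine (map_res (WR W R) φ.toRingHom v w).trans ?_
  rw [h]
  funext l
  exact map_mul φ c (z l)

include hns in
/-- Two morphisms to the cubic that differ generically have a chord morphism. -/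
theorem exists_chord_hom {S : Scheme.{u}} [IsIntegral S] (pS : S ⟶ Spec (CommRingCat.of k)) [LocallyOfFiniteType pS]
    (g₁ g₂ : S ⟶ Sch W) (hg₁ : g₁ ≫ toBase W = pS) (hg₂ : g₂ ≫ toBase W = pS)
    (hgen : letI : Algebra k S.functionField := (Curve17.baseStalk pS (genericPoint S)).hom.toAlgebra
      ∃ Q, Chord W (S.fromSpecStalk (genericPoint S) ≫ g₁) (S.fromSpecStalk (genericPoint S) ≫ g₂) Q) :
    ∃ r : S ⟶ Sch W, r ≫ toBase W = pS ∧ ∀ (L : Type u) [Field L] [Algebra k L] (t : Spec (CommRingCat.of L) ⟶ S),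
      t ≫ pS = GrassLib.str k L → ∀ Q, Chord W (t ≫ g₁) (t ≫ g₂) Q → t ≫ r = Q := by
  letI algS : ∀ s : S, Algebra k (S.presheaf.stalk s) := fun s => (Curve17.baseStalk pS s).hom.toAlgebra
  obtain ⟨Q₀, hQ₀⟩ := hgen
  have hstr : ∀ s : S, GrassLib.str k (S.presheaf.stalk s) = S.fromSpecStalk s ≫ pS := fun s =>
    Curve17.SpecMap_baseStalk pS s
  have hlift : ∀ s : S, ∃ ψ : Spec (S.presheaf.stalk s) ⟶ Sch W, ψ ≫ toBase W = S.fromSpecStalk s ≫ pS ∧
      ∀ (L : Type u) [Field L] [Algebra k L] (σ : S.presheaf.stalk s →ₐ[k] L) (Q : Spec (CommRingCat.of L) ⟶ Sch W),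
        Chord W (GrassLib.sp σ ≫ S.fromSpecStalk s ≫ g₁) (GrassLib.sp σ ≫ S.fromSpecStalk s ≫ g₂) Q →
          GrassLib.sp σ ≫ ψ = Q := by
    intro s
    obtain ⟨i, v, hi, hv, h1⟩ := exists_point (R := S.presheaf.stalk s) W (S.fromSpecStalk s ≫ g₁)
      (by rw [Category.assoc, hg₁]; exact (hstr s).symm)
    obtain ⟨j, w, hj, hw, h2⟩ := exists_point (R := S.presheaf.stalk s) W (S.fromSpecStalk s ≫ g₂)
      (by rw [Category.assoc, hg₂]; exact (hstr s).symm)
    obtain ⟨z, c, l, hl, hz, hr⟩ := exists_residual_pt W hns v w hi hv hj hw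
    refine ⟨pointOf (R := S.presheaf.stalk s) W l z hl hz, (pointOf_toBase (R := S.presheaf.stalk s) W l z hl hz).trans (hstr s), fun L _ _ σ Q hQ => ?_⟩
    exact (sp_pointOf W σ l z hl hz).trans (hQ.eq_of_res W _ _
      ((congrArg (GrassLib.sp σ ≫ ·) h1).trans (sp_pointOf W σ i v hi hv))
      ((congrArg (GrassLib.sp σ ≫ ·) h2).trans (sp_pointOf W σ j w hj hw)) (res_comp W σ hr)).symm
  choose ψ hψb hψ using hlift
  let σ₀ : ∀ s : S, S.presheaf.stalk s →ₐ[k] S.functionField := fun s =>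
    { (S.presheaf.stalkSpecializes (genericPoint_specializes s)).hom with
      commutes' := fun a => by
        have h : Curve17.baseStalk pS s ≫ S.presheaf.stalkSpecializes (genericPoint_specializes s) =
            Curve17.baseStalk pS (genericPoint S) := by
          apply Spec.map_injective
          rw [Spec.map_comp, Curve17.SpecMap_baseStalk, Curve17.SpecMap_baseStalk,
            Scheme.SpecMap_stalkSpecializes_fromSpecStalk_assoc]
        exact RingHom.congr_fun (congrArg CommRingCat.Hom.hom h) a }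
  have hσ₀ : ∀ s, GrassLib.sp (σ₀ s) = Spec.map (S.presheaf.stalkSpecializes (genericPoint_specializes s)) :=
    fun s => rfl
  obtain ⟨r, hr, hrs⟩ := exists_hom_of_stalks pS (toBase W) Q₀ ((hQ₀.toBase W).trans (hstr _)) ψ hψb fun s => by
    refine (congrArg (· ≫ ψ s) (hσ₀ s)).symm.trans (hψ s S.functionField (σ₀ s) Q₀ ?_)
    rw [hσ₀, Scheme.SpecMap_stalkSpecializes_fromSpecStalk_assoc, Scheme.SpecMap_stalkSpecializes_fromSpecStalk_assoc]
    exact hQ₀
  refine ⟨r, hr, fun L _ _ t ht Q hQ => ?_⟩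
  obtain ⟨s, hs⟩ : ∃ s, t (IsLocalRing.closedPoint L) = s := ⟨_, rfl⟩
  subst hs
  let σ : S.presheaf.stalk (t (IsLocalRing.closedPoint L)) →ₐ[k] L :=
    { (Scheme.stalkClosedPointTo t).hom with
      commutes' := fun a => by
        have h : Curve17.baseStalk pS (t (IsLocalRing.closedPoint L)) ≫ Scheme.stalkClosedPointTo t =
            CommRingCat.ofHom (algebraMap k L) := by
          apply Spec.map_injective
          rw [Spec.map_comp, Curve17.SpecMap_baseStalk, Scheme.Spec_stalkClosedPointTo_fromSpecStalk_assoc, ht]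
        exact RingHom.congr_fun (congrArg CommRingCat.Hom.hom h) a }
  have hσ : GrassLib.sp σ ≫ S.fromSpecStalk _ = t := Scheme.Spec_stalkClosedPointTo_fromSpecStalk t
  rw [← hσ, Category.assoc, hrs]
  refine hψ _ L σ Q ?_
  rw [← Category.assoc, ← Category.assoc, hσ]
  exact hQ

end Groth.Agent.GroupLaw17
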