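import Mathlib.AlgebraicGeometry.EllipticCurve.Weierstrass
import Mathlib.RingTheory.LocalRing.ResidueField.Basic
import Mathlib.Tactic.LinearCombination
import Mathlib.Tactic.FieldSimp
import Mathlib.Tactic.FinCases

/-!
# The third point on a chord of a Weierstrass cubic, over a local ring
-/

set_option autoImplicit false
set_option maxHeartbeats 800000

namespace Groth.Agent.GroupLaw17

open WeierstrassCurve

variable {R : Type*} [CommRing R] (W : WeierstrassCurve R)

/-- The cubic form. -/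
def F (v : Fin 3 → R) : R :=
  v 1 ^ 2 * v 2 + W.a₁ * v 0 * v 1 * v 2 + W.a₃ * v 1 * v 2 ^ 2 - v 0 ^ 3 - W.a₂ * v 0 ^ 2 * v 2
    - W.a₄ * v 0 * v 2 ^ 2 - W.a₆ * v 2 ^ 3

/-- Its gradient. -/
def G (v : Fin 3 → R) : Fin 3 → R :=
  ![W.a₁ * v 1 * v 2 - 3 * v 0 ^ 2 - 2 * W.a₂ * v 0 * v 2 - W.a₄ * v 2 ^ 2,
    2 * v 1 * v 2 + W.a₁ * v 0 * v 2 + W.a₃ * v 2 ^ 2,
    v 1 ^ 2 + W.a₁ * v 0 * v 1 + 2 * W.a₃ * v 1 * v 2 - W.a₂ * v 0 ^ 2 - 2 * W.a₄ * v 0 * v 2 - 3 * W.a₆ * v 2 ^ 2]

/-- The polar form. -/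
def D (v w : Fin 3 → R) : R := G W v 0 * w 0 + G W v 1 * w 1 + G W v 2 * w 2

/-- The third point on the chord. -/
def res (v w : Fin 3 → R) : Fin 3 → R := fun l => D W w v * v l - D W v w * w l

theorem F_smul (c : R) (v : Fin 3 → R) : F W (c • v) = c ^ 3 * F W v := by
  simp [F]; ring

theorem D_self (v : Fin 3 → R) : D W v v = 3 * F W v := by
  simp [D, G, F]; ring

theorem F_add (s t : R) (v w : Fin 3 → R) :
    F W (s • v + t • w) = s ^ 3 * F W v + s ^ 2 * t * D W v w + s * t ^ 2 * D W w v + t ^ 3 * F W w := by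
  simp [F, D, G]; ring

theorem D_add_left (s t : R) (v w : Fin 3 → R) :
    D W (s • v + t • w) v = s ^ 2 * (3 * F W v) + 2 * s * t * D W v w + t ^ 2 * D W w v := by
  simp [F, D, G]; ring

theorem D_add_right (s t : R) (u v w : Fin 3 → R) : D W u (s • v + t • w) = s * D W u v + t * D W u w := by
  simp [D, G]; ring

theorem D_smul_left (c : R) (v w : Fin 3 → R) : D W (c • v) w = c ^ 2 * D W v w := by
  simp [D, G]; ring

theorem D_smul_right (c : R) (v w : Fin 3 → R) : D W v (c • w) = c * D W v w := by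
  simp [D, G]; ring

theorem res_eq (v w : Fin 3 → R) : res W v w = D W w v • v + (-D W v w) • w :=
  funext fun l => by simp [res]; ring

theorem res_swap (v w : Fin 3 → R) : res W w v = -res W v w :=
  funext fun l => by simp [res]

theorem res_smul (s t : R) (v w : Fin 3 → R) : res W (s • v) (t • w) = (s ^ 2 * t ^ 2) • res W v w :=
  funext fun l => by simp [res, D_smul_left, D_smul_right]; ring

theorem F_res {v w : Fin 3 → R} (hv : F W v = 0) (hw : F W w = 0) : F W (res W v w) = 0 := by
  rw [res_eq, F_add, hv, hw]; ring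

/-- Twice the chord through a fixed point. -/
theorem res_res {v w : Fin 3 → R} (hv : F W v = 0) :
    res W v (res W v w) = (-D W v w ^ 3) • w := by
  funext l
  simp only [res_eq, Pi.add_apply, Pi.smul_apply, smul_eq_mul, D_add_right, D_add_left, D_self, hv]
  ring

theorem map_F {S : Type*} [CommRing S] (φ : R →+* S) (v : Fin 3 → R) : F (W.map φ) (φ ∘ v) = φ (F W v) := by
  simp [F]

theorem map_G {S : Type*} [CommRing S] (φ : R →+* S) (v : Fin 3 → R) (l : Fin 3) :
    G (W.map φ) (φ ∘ v) l = φ (G W v l) := by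
  fin_cases l <;> simp [G, map_ofNat]

theorem map_D {S : Type*} [CommRing S] (φ : R →+* S) (v w : Fin 3 → R) : D (W.map φ) (φ ∘ v) (φ ∘ w) = φ (D W v w) := by
  simp [D, map_G]

theorem map_res {S : Type*} [CommRing S] (φ : R →+* S) (v w : Fin 3 → R) :
    res (W.map φ) (φ ∘ v) (φ ∘ w) = φ ∘ res W v w := by
  funext l; simp [res, map_D]

section Fld

variable {L : Type*} [Field L] (V : WeierstrassCurve L)

/-- A Weierstrass cubic contains no line. -/
theorem minor_eq_zero {v w : Fin 3 → L} (hv : F V v = 0) (hw : F V w = 0) (h1 : D V v w = 0) (h2 : D V w v = 0)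
    (i j : Fin 3) : v i * w j = v j * w i := by
  let u : Fin 3 → L := w 2 • v + (-v 2) • w
  have hu2 : u 2 = 0 := by simp [u]; ring
  have hFu : F V u = 0 := by rw [F_add, hv, hw, h1, h2]; ring
  have hu0 : u 0 = 0 := by
    have h := hFu
    simp only [F, hu2] at h
    have : u 0 ^ 3 = 0 := by linear_combination -h
    exact eq_zero_of_pow_eq_zero this
  have hDv : D V u v = 0 := by rw [D_add_left, hv, h1, h2]; ring
  have hDw : D V u w = 0 := by
    have e : u = (-v 2) • w + w 2 • v := add_comm _ _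
    rw [e, D_add_left, hw, h1, h2]; ring
  have key : ∀ x : Fin 3 → L, D V u x = u 1 ^ 2 * x 2 := fun x => by simp [D, G, hu0, hu2]
  rw [key] at hDv hDw
  by_cases h : v 2 = 0 ∧ w 2 = 0
  · have hv0 : v 0 = 0 := by
      have h' := hv
      simp only [F, h.1] at h'
      exact eq_zero_of_pow_eq_zero (by linear_combination -h' : v 0 ^ 3 = 0)
    have hw0 : w 0 = 0 := by
      have h' := hw
      simp only [F, h.2] at h'
      exact eq_zero_of_pow_eq_zero (by linear_combination -h' : w 0 ^ 3 = 0)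
    fin_cases i <;> fin_cases j <;> simp [hv0, hw0, h.1, h.2]
  · have hu1 : u 1 = 0 := by
      by_contra hne
      exact h ⟨(mul_eq_zero.1 hDv).resolve_left (pow_ne_zero 2 hne), (mul_eq_zero.1 hDw).resolve_left (pow_ne_zero 2 hne)⟩
    have hu : ∀ l, w 2 * v l = v 2 * w l := fun l => by
      have h' : u l = 0 := by fin_cases l <;> assumption
      simp [u] at h'
      linear_combination h'
    rcases not_and_or.1 h with hne | hne
    · exact mul_left_cancel₀ hne (by linear_combination v j * hu i - v i * hu j)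
    · exact mul_left_cancel₀ hne (by linear_combination w j * hu i - w i * hu j)

theorem res_ne_zero {v w : Fin 3 → L} (hv : F V v = 0) (hw : F V w = 0) {i j : Fin 3}
    (h : v i * w j ≠ v j * w i) : res V v w ≠ 0 := by
  intro h0
  have e : ∀ l, D V w v * v l = D V v w * w l := fun l => sub_eq_zero.1 (congrFun h0 l)
  have hne := sub_ne_zero.2 h
  have h1 : D V v w = 0 := (mul_eq_zero.1 (show D V v w * (v i * w j - v j * w i) = 0 by
    linear_combination v j * e i - v i * e j)).resolve_right hne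
  have h2 : D V w v = 0 := (mul_eq_zero.1 (show D V w v * (v i * w j - v j * w i) = 0 by
    linear_combination w j * e i - w i * e j)).resolve_right hne
  exact h (minor_eq_zero V hv hw h1 h2 i j)

end Fld

section Loc

variable [IsLocalRing R]

open IsLocalRing

theorem isUnit_of_residue_ne_zero {x : R} (h : residue R x ≠ 0) : IsUnit x :=
  (residue_ne_zero_iff_isUnit x).1 h

/-- The two points are infinitely near: divided differences give the third point. -/
theorem exists_residual_near (hns : ∀ x : Fin 3 → ResidueField R, x ≠ 0 → F (W.map (residue R)) x = 0 →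
      ∃ l, G (W.map (residue R)) x l ≠ 0)
    (v u : Fin 3 → R) (hv : F W v = 0) (hw : F W (v + u) = 0) {i : Fin 3} (hi : v i = 1) (hui : u i = 0)
    (hum : ∀ l, residue R (u l) = 0) :
    ∃ (z : Fin 3 → R) (c : R), (∃ l, IsUnit (z l)) ∧ F W z = 0 ∧ res W v (v + u) = c • z := by
  let B : Fin 3 → R :=
    ![-3 * u 0 * v 0 - 2 * W.a₂ * u 2 * v 0 + W.a₁ * u 2 * v 1 + W.a₁ * u 1 * v 2 - W.a₂ * u 0 * v 2
        - 2 * W.a₄ * u 2 * v 2 + W.a₁ * u 1 * u 2 - u 0 ^ 2 - W.a₂ * u 0 * u 2 - W.a₄ * u 2 ^ 2,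
      W.a₁ * u 2 * v 0 + 2 * u 2 * v 1 + u 1 * v 2 + 2 * W.a₃ * u 2 * v 2 + u 1 * u 2 + W.a₃ * u 2 ^ 2,
      -W.a₄ * u 2 * v 0 + W.a₃ * u 2 * v 1 - 3 * W.a₆ * u 2 * v 2 - W.a₆ * u 2 ^ 2]
  let A : Fin 3 → R := G W v + B
  have hA : A 0 * u 0 + A 1 * u 1 + A 2 * u 2 = 0 := by
    have h1 : A 0 * u 0 + A 1 * u 1 + A 2 * u 2 = F W (v + u) - F W v := by
      simp [A, B, G, F]; ring
    rw [h1, hw, hv, sub_zero]
  let Wb := W.map (residue R)
  let vb : Fin 3 → ResidueField R := residue R ∘ v
  have hBr : ∀ l, residue R (B l) = 0 := fun l => by fin_cases l <;> simp [B, hum]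
  have hAb : ∀ l, residue R (A l) = G Wb vb l := fun l => by
    rw [map_G]
    show residue R (G W v l + B l) = _
    rw [map_add, hBr, add_zero]
  have hFb : F Wb vb = 0 := by rw [map_F, hv, map_zero]
  obtain ⟨p, q, hpi, hqi, hpq, hq⟩ : ∃ p q, p ≠ i ∧ q ≠ i ∧ p ≠ q ∧ G Wb vb q ≠ 0 := by
    obtain ⟨l, hl⟩ := hns vb (fun h => by simpa [vb, hi] using congrFun h i) hFb
    by_cases hli : l = i
    · subst hli
      by_contra hcon
      push Not at hcon
      refine hl ?_
      have he := D_self Wb vb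
      rw [hFb, mul_zero, D] at he
      have hvl : vb l = 1 := by simp [vb, hi]
      have h0 : ∀ q, q ≠ l → G Wb vb q = 0 := fun q hql => by
        obtain ⟨p, hp1, hp2⟩ : ∃ p : Fin 3, p ≠ l ∧ p ≠ q :=
          (show ∀ a b : Fin 3, ∃ p, p ≠ a ∧ p ≠ b by decide) l q
        exact hcon p q hp1 hql hp2
      fin_cases l
      · simpa [h0 1 (by decide), h0 2 (by decide), show vb 0 = 1 from hvl] using he
      · simpa [h0 0 (by decide), h0 2 (by decide), show vb 1 = 1 from hvl] using he
      · simpa [h0 0 (by decide), h0 1 (by decide), show vb 2 = 1 from hvl] using he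
    · obtain ⟨p, hp1, hp2⟩ : ∃ p : Fin 3, p ≠ i ∧ p ≠ l :=
        (show ∀ a b : Fin 3, ∃ p, p ≠ a ∧ p ≠ b by decide) i l
      exact ⟨p, l, hp1, hli, hp2, hl⟩
  obtain ⟨a, ha⟩ : IsUnit (A q) := isUnit_of_residue_ne_zero (by rwa [hAb])
  let e : Fin 3 → R := Function.update (Function.update 0 p 1) q (-(A p * (a⁻¹ : Rˣ)))
  have hep : e p = 1 := by simp [e, hpq]
  have hei : e i = 0 := by simp [e, hpi.symm, hqi.symm]
  have heq : e q = -(A p * (a⁻¹ : Rˣ)) := by simp [e]
  have hsum : ∀ f : Fin 3 → R, f 0 + f 1 + f 2 = f i + f p + f q :=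
    fun f => by fin_cases i <;> fin_cases p <;> fin_cases q <;> first | contradiction | (simp; try ring)
  have hAu : A p * u p + A q * u q = 0 := by
    have := hsum (fun l => A l * u l)
    rw [hA, hui, mul_zero, zero_add] at this
    exact this.symm
  have hAe : A 0 * e 0 + A 1 * e 1 + A 2 * e 2 = 0 := by
    rw [hsum (fun l => A l * e l), hei, hep, heq, ← ha]
    linear_combination -(A p) * a.mul_inv
  obtain ⟨c, hc⟩ : ∃ c, u = c • e := by
    refine ⟨u p, funext fun l => ?_⟩
    have hl : l = i ∨ l = p ∨ l = q :=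
      (show ∀ i p q l : Fin 3, p ≠ i → q ≠ i → p ≠ q → l = i ∨ l = p ∨ l = q by decide) i p q l hpi hqi hpq
    rcases hl with el | el | el <;> rw [el]
    · simp [hui, hei]
    · simp [hep]
    · rw [Pi.smul_apply, heq, smul_eq_mul]
      rw [← ha] at hAu
      linear_combination (a⁻¹ : Rˣ) * hAu - u q * a.mul_inv
  let P2 := D W e v
  let P3 := F W e
  have hP : D W v e + c * P2 + c ^ 2 * P3 = 0 := by
    rw [← hAe]
    simp only [P2, P3, A, B, hc, D, F, G, Pi.add_apply, Pi.smul_apply, smul_eq_mul, Matrix.cons_val_zero,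
      Matrix.cons_val_one, Matrix.cons_val]
    ring
  refine ⟨P3 • v + (-(P2 + c * P3)) • e, -c ^ 3, ?_, ?_, ?_⟩
  · by_cases h3 : IsUnit P3
    · exact ⟨i, by simpa [hi, hei] using h3⟩
    · refine ⟨p, isUnit_of_residue_ne_zero ?_⟩
      have h3' : residue R P3 = 0 := by
        by_contra hne; exact h3 (isUnit_of_residue_ne_zero hne)
      have hcr : residue R c = 0 := by
        have := hum p; rw [hc] at this; simpa [hep] using this
      have hz : residue R ((P3 • v + (-(P2 + c * P3)) • e) p) = -residue R P2 := by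
        simp [hep, h3', hcr]
      rw [hz, neg_ne_zero]
      intro h2
      have h1 : D Wb vb (residue R ∘ e) = 0 := by
        rw [map_D]
        have := congrArg (residue R) hP
        simpa [hcr] using this
      have h2' : D Wb (residue R ∘ e) vb = 0 := by rw [map_D]; exact h2
      have := minor_eq_zero Wb hFb (w := residue R ∘ e) (by rw [map_F]; exact h3') h1 h2' i p
      simp [vb, hi, hep, hei] at this
  · rw [F_add, hv]
    linear_combination (-(P3 ^ 2) * (P2 + c * P3)) * hP
  · rw [show v + u = (1 : R) • v + c • e by rw [hc, one_smul]]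
    funext l
    simp only [res_eq, D_add_left, D_add_right, D_self, hv, Pi.add_apply, Pi.smul_apply, smul_eq_mul]
    linear_combination (c * v l - c ^ 2 * e l) * hP

/-- The third point on the chord through two points over a local ring. -/
theorem exists_residual (hns : ∀ x : Fin 3 → ResidueField R, x ≠ 0 → F (W.map (residue R)) x = 0 →
      ∃ l, G (W.map (residue R)) x l ≠ 0)
    (v w : Fin 3 → R) (hv : F W v = 0) (hw : F W w = 0) {i j : Fin 3} (hi : v i = 1) (hj : w j = 1) :
    ∃ (z : Fin 3 → R) (c : R) (l : Fin 3), z l = 1 ∧ F W z = 0 ∧ res W v w = c • z := by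
  suffices h : ∃ (z : Fin 3 → R) (c : R), (∃ l, IsUnit (z l)) ∧ F W z = 0 ∧ res W v w = c • z by
    obtain ⟨z, c, ⟨l, ⟨b, hb⟩⟩, hz, hr⟩ := h
    refine ⟨((b⁻¹ : Rˣ) : R) • z, c * b, l, ?_, ?_, ?_⟩
    · simp [← hb]
    · rw [F_smul, hz, mul_zero]
    · rw [hr, smul_smul, mul_assoc, b.mul_inv, mul_one]
  by_cases h : ∃ p q, residue R (v p * w q - v q * w p) ≠ 0
  · obtain ⟨p, q, hpq⟩ := h
    refine ⟨res W v w, 1, ?_, F_res W hv hw, (one_smul _ _).symm⟩
    by_contra hcon
    push Not at hcon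
    refine res_ne_zero (W.map (residue R)) (v := residue R ∘ v) (w := residue R ∘ w) (by rw [map_F, hv, map_zero])
      (by rw [map_F, hw, map_zero]) (i := p) (j := q) (fun e => hpq ?_) ?_
    · simp only [Function.comp_apply] at e
      rw [map_sub, map_mul, map_mul, e, sub_self]
    · rw [map_res]
      funext l
      by_contra hne
      exact hcon l (isUnit_of_residue_ne_zero hne)
  · push Not at h
    have hwl : ∀ l, residue R (w l) = residue R (w i) * residue R (v l) := fun l => by
      have := h i l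
      rw [hi, one_mul, map_sub, map_mul, sub_eq_zero] at this
      rw [this, mul_comm]
    obtain ⟨b, hb⟩ : IsUnit (w i) := isUnit_of_residue_ne_zero fun e => by
      have := hwl j
      rw [hj, map_one, e, zero_mul] at this
      exact one_ne_zero this
    let u : Fin 3 → R := ((b⁻¹ : Rˣ) : R) • w - v
    obtain ⟨z, c, hzu, hz, hr⟩ := exists_residual_near W hns v u hv
      (by rw [add_sub_cancel, F_smul, hw, mul_zero]) hi (by simp [u, ← hb, hi])
      (fun l => by
        simp only [u, Pi.sub_apply, Pi.smul_apply, smul_eq_mul, map_sub, map_mul]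
        rw [hwl l, ← mul_assoc, ← map_mul, ← hb, b.inv_mul, map_one, one_mul, sub_self])
    refine ⟨z, (b : R) ^ 2 * c, hzu, hz, ?_⟩
    have e : w = (b : R) • (v + u) := by rw [add_sub_cancel, smul_smul, b.mul_inv, one_smul]
    have := res_smul W 1 (b : R) v (v + u)
    rw [one_smul, ← e, hr, one_pow, one_mul, smul_smul] at this
    exact this

end Loc

end Groth.Agent.GroupLaw17
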