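import Groth.Agent.Lib.GroupLaw17.Main
import Groth.Agent.Lib.WeierModel17.Model
import Groth.Agent.Lib.WeierModel17.Point
import Groth.Agent.Lib.WeierModel17.Coords
import Groth.Agent.Lib.VB17.Proper
import Groth.Agent.S7785

/-!
# A genus one curve with a rational point is a commutative group
-/

set_option linter.style.haveILetI false
set_option autoImplicit false
set_option maxHeartbeats 800000

universe u

open CategoryTheory CategoryTheory.Limits AlgebraicGeometry MonoidalCategory CartesianMonoidalCategory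

noncomputable section

namespace Groth.Agent.GroupLaw17

/-- A smooth proper connected curve of genus one with a rational point is a group. -/
theorem exists_grpObj_curve {k : Type u} [Field k] (E : Scheme.{u}) [E.Over (Spec (CommRingCat.of k))]
    [IsProper (E ↘ Spec (CommRingCat.of k))] [Smooth (E ↘ Spec (CommRingCat.of k))] [ConnectedSpace E]
    (hdim : topologicalKrullDim E = 1) (hg : Curv2.genus k E = 1)
    (o : 𝟙_ (Over (Spec (CommRingCat.of k))) ⟶ Over.mk (E ↘ Spec (CommRingCat.of k))) :
    ∃ h : GrpObj (Over.mk (E ↘ Spec (CommRingCat.of k))), h.one = o := by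
  haveI := VB17.isNoetherian_of_over (k := k) (X := E)
  haveI : IsIntegral E := VB17.isIntegral_of_connected fun x => SmoothReg17.isDomain_stalk (E ↘ Spec (CommRingCat.of k)) x
  let oL : Spec (CommRingCat.of k) ⟶ E := o.left
  have ho : oL ≫ (E ↘ Spec (CommRingCat.of k)) = 𝟙 _ := Over.w o
  have h0 := WeierModel17.h0_eq_one_of_point oL ho (VB17.curveLike hdim)
  obtain ⟨P, hP⟩ := WeierModel17.exists_place_of_point oL ho hdim
  letI := Curv2.stalkAlgebra k E (genericPoint E)
  obtain ⟨hK, hgK⟩ := GenusFF17.genus_functionField (k := k) hdim h0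
  rw [hg] at hgK
  obtain ⟨a₁, a₂, a₃, a₄, a₆, x, y, hc⟩ := WeierModel17.exists_coords hK hgK P hP
  obtain ⟨hns, e, he⟩ := WeierModel17.exists_iso hdim h0 hg P hP x y hc.memx hc.memy hc.ordx hc.ordy a₁ a₂ a₃ a₄ a₆ hc.rel
  let W : WeierstrassCurve k := ⟨a₁, a₂, a₃, a₄, a₆⟩
  have he' : e.hom ≫ toBase W = E ↘ Spec (CommRingCat.of k) := he
  have hinv : toBase W = e.inv ≫ (E ↘ Spec (CommRingCat.of k)) := by rw [← he', Iso.inv_hom_id_assoc]
  haveI : IsProper (toBase W) := by rw [hinv]; infer_instance
  haveI : Smooth (toBase W) := by rw [hinv]; infer_instance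
  let eH := TopCat.homeoOfIso (Scheme.forgetToTop.mapIso e)
  haveI : ConnectedSpace (Sch W) := eH.surjective.connectedSpace eH.continuous
  have hdim' : topologicalKrullDim (Sch W) = 1 :=
    (IsHomeomorph.topologicalKrullDim_eq _ eH.isHomeomorph).symm.trans hdim
  let eo : Obj W ≅ Over.mk (E ↘ Spec (CommRingCat.of k)) := Over.isoMk e.symm hinv.symm
  obtain ⟨h, hh⟩ := exists_grpObj W hns hdim' (o ≫ eo.inv)
  refine ⟨@GrpObj.ofIso _ _ _ (Obj W) _ h eo, ?_⟩
  show @MonObj.one _ _ _ (Obj W) h.toMonObj ≫ eo.hom = o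
  rw [hh, Category.assoc, Iso.inv_hom_id, Category.comp_id]

end Groth.Agent.GroupLaw17
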