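import Groth.Agent.Lib.GroupLaw17.Chord
import Groth.Agent.S7791
import Groth.Agent.S7787
import Mathlib.AlgebraicGeometry.Group.Abelian
import Mathlib.Topology.KrullDimension

/-!
# A smooth Weierstrass cubic with a rational point is a group
-/

set_option linter.style.haveILetI false
set_option autoImplicit false
set_option maxHeartbeats 800000
set_option backward.isDefEq.respectTransparency false
set_option backward.isDefEq.respectTransparency.types false

universe u

open CategoryTheory CategoryTheory.Limits AlgebraicGeometry TopologicalSpace MonoidalCategory CartesianMonoidalCategory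

noncomputable section

namespace Groth.Agent.GroupLaw17

variable {k : Type u} [Field k] (W : WeierstrassCurve k)

/-- A point whose join with a rational point is tangent there is rational. -/
theorem exists_rational_of_tangent
    (hns : ∀ v : Fin 3 → AlgebraicClosure k, v ≠ 0 → MvPolynomial.aeval v (form W).1 = 0 →
      ∃ l, MvPolynomial.aeval v (MvPolynomial.pderiv l (form W).1) ≠ 0)
    {L : Type u} [Field L] [Algebra k L] {i : Fin 3} {o : Fin 3 → k} (hi : o i = 1) (ho : F (WR W k) o = 0)
    {w : Fin 3 → L} (hw : F (WR W L) w = 0)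
    (hD : D (WR W L) (algebraMap k L ∘ o) w = 0) :
    ∃ (l : Fin 3) (q : Fin 3 → k), q l = 1 ∧ F (WR W k) q = 0 ∧ ∃ c : L, w = c • (algebraMap k L ∘ q) := by
  obtain ⟨l, hl⟩ := exists_G_ne_zero W hns o (fun e => by simp [e] at hi) ho
  have hsum : D (WR W k) o o = 0 := by rw [D_self, ho, mul_zero]
  obtain ⟨p, q, hpi, hqi, hpq, hq⟩ : ∃ p q, p ≠ i ∧ q ≠ i ∧ p ≠ q ∧ G (WR W k) o q ≠ 0 := by
    by_contra hcon
    push Not at hcon
    have h0 : ∀ q, q ≠ i → G (WR W k) o q = 0 := fun q hqi => by
      obtain ⟨p, hp1, hp2⟩ : ∃ p : Fin 3, p ≠ i ∧ p ≠ q :=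
        (show ∀ a b : Fin 3, ∃ p, p ≠ a ∧ p ≠ b by decide) i q
      exact hcon p q hp1 hqi hp2
    rw [D] at hsum
    fin_cases i <;> fin_cases l <;> simp_all
  have hs3 : ∀ {A : Type u} [CommRing A] (f : Fin 3 → A), f 0 + f 1 + f 2 = f i + f p + f q :=
    fun f => by fin_cases i <;> fin_cases p <;> fin_cases q <;> first | contradiction | (simp; try ring)
  let φ := algebraMap k L
  have hW : (WR W k).map φ = WR W L := map_WR W (Algebra.ofId k L)
  have hGL : ∀ r, G (WR W L) (φ ∘ o) r = φ (G (WR W k) o r) := fun r => by rw [← hW, map_G]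
  let t : L := (w p - w i * φ (o p)) / φ (G (WR W k) o q)
  let b : Fin 3 → k := Function.update (Function.update 0 p (G (WR W k) o q)) q (-G (WR W k) o p)
  have hbp : b p = G (WR W k) o q := by simp [b, hpq]
  have hbq : b q = -G (WR W k) o p := by simp [b]
  have hbi : b i = 0 := by simp [b, hpi.symm, hqi.symm]
  have hq' : φ (G (WR W k) o q) ≠ 0 := (map_ne_zero φ).2 hq
  have hcase : ∀ r, r = i ∨ r = p ∨ r = q := fun r =>
    (show ∀ i p q l : Fin 3, p ≠ i → q ≠ i → p ≠ q → l = i ∨ l = p ∨ l = q by decide) i p q r hpi hqi hpq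
  have hwsum : w = w i • (φ ∘ o) + t • (φ ∘ b) := by
    have h1 := hs3 (fun r => G (WR W L) (φ ∘ o) r * w r)
    rw [show G (WR W L) (φ ∘ o) 0 * w 0 + G (WR W L) (φ ∘ o) 1 * w 1 + G (WR W L) (φ ∘ o) 2 * w 2 = 0 from hD,
      hGL, hGL, hGL] at h1
    have h2 := hs3 (fun r => G (WR W k) o r * o r)
    rw [show G (WR W k) o 0 * o 0 + G (WR W k) o 1 * o 1 + G (WR W k) o 2 * o 2 = 0 from hsum, hi, mul_one] at h2
    have h2' := congrArg φ h2
    simp only [map_add, map_mul, map_zero] at h2'
    funext r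
    rcases hcase r with e | e | e <;> rw [e] <;> simp only [Pi.add_apply, Pi.smul_apply, Function.comp_apply, smul_eq_mul]
    · simp [hi, hbi]
    · rw [hbp]; simp only [t]; field_simp; ring
    · rw [hbq, map_neg]; simp only [t]; field_simp
      linear_combination -h1 + w i * h2'
  have hFo : F (WR W L) (φ ∘ o) = 0 := F_comp W (Algebra.ofId k L) ho
  by_cases ht : t = 0
  · exact ⟨i, o, hi, ho, w i, by conv_lhs => rw [hwsum, ht, zero_smul, add_zero]⟩
  have hDb : D (WR W k) o b = 0 := by
    have := hs3 (fun r => G (WR W k) o r * b r)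
    rw [hbi, hbp, hbq] at this
    rw [D, this]; ring
  have hmapD : D (WR W L) (φ ∘ b) (φ ∘ o) = φ (D (WR W k) b o) := by rw [← hW, map_D]
  have hmapF : F (WR W L) (φ ∘ b) = φ (F (WR W k) b) := by rw [← hW, map_F]
  have heq : w i * φ (D (WR W k) b o) + t * φ (F (WR W k) b) = 0 := by
    have := hw
    rw [hwsum, F_add, hFo, ← hW, map_D, hDb, map_zero, map_D, map_F] at this
    exact (mul_eq_zero.1 (show t ^ 2 * (w i * φ (D (WR W k) b o) + t * φ (F (WR W k) b)) = 0 by
      linear_combination this)).resolve_left (pow_ne_zero _ ht)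
  have hd : D (WR W k) b o ≠ 0 := by
    intro hd
    rw [hd, map_zero, mul_zero, zero_add] at heq
    have hb0 : F (WR W k) b = 0 := φ.injective (((mul_eq_zero.1 heq).resolve_left ht).trans (map_zero φ).symm)
    have := minor_eq_zero (WR W k) ho hb0 hDb hd i p
    rw [hi, hbi, hbp, one_mul, mul_zero] at this
    exact hq this
  let z : Fin 3 → k := (-F (WR W k) b) • o + D (WR W k) b o • b
  have hzp : z ≠ 0 := fun e => by
    have h1 := congrFun e i
    have h2 := congrFun e p
    simp [z, hi, hbi] at h1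
    simp [z, hbp, h1, hd, hq] at h2
  have hz : F (WR W k) z = 0 := by rw [F_add, ho, hDb]; ring
  obtain ⟨r, hr⟩ : ∃ r, z r ≠ 0 := Function.ne_iff.1 hzp
  refine ⟨r, (z r)⁻¹ • z, inv_mul_cancel₀ hr, by rw [F_smul, hz, mul_zero],
    t / φ (D (WR W k) b o) * φ (z r), funext fun m => ?_⟩
  have hd' : φ (D (WR W k) b o) ≠ 0 := (map_ne_zero φ).2 hd
  have hwm := congrFun hwsum m
  simp only [Pi.add_apply, Pi.smul_apply, Function.comp_apply, smul_eq_mul] at hwm ⊢
  rw [map_mul, map_inv₀]
  have hz' : φ (z m) = -φ (F (WR W k) b) * φ (o m) + φ (D (WR W k) b o) * φ (b m) := by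
    rw [← map_neg, ← map_mul, ← map_mul, ← map_add]; rfl
  have hr' : φ (z r) ≠ 0 := (map_ne_zero φ).2 hr
  show w m = t / φ (D (WR W k) b o) * φ (z r) * ((φ (z r))⁻¹ * φ (z m))
  rw [mul_assoc, mul_inv_cancel_left₀ hr', div_mul_eq_mul_div, eq_div_iff hd', hz']
  clear_value t
  linear_combination φ (D (WR W k) b o) * hwm + φ (o m) * heq

/-- The structure morphism as an object over the base. -/
abbrev Obj : Over (Spec (CommRingCat.of k)) := Over.mk (toBase W)

section law

variable [IsProper (toBase W)] [Smooth (toBase W)] [ConnectedSpace (Sch W)]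

theorem str_self : GrassLib.str k k = 𝟙 (Spec (CommRingCat.of k)) := Spec.map_id (CommRingCat.of k)

omit [IsProper (toBase W)] [Smooth (toBase W)] [ConnectedSpace (Sch W)] in
theorem not_const (hdim : topologicalKrullDim (Sch W) = 1) (a : 𝟙_ (Over (Spec (CommRingCat.of k))) ⟶ Obj W) :
    𝟙 (Obj W) ≠ toUnit (Obj W) ≫ a := by
  intro h
  have hsub : Subsingleton (Sch W) := by
    refine ⟨fun x y => ?_⟩
    have he : ∀ x : Sch W, x = a.left (toBase W x) := fun x =>
      congrArg (fun g : Obj W ⟶ Obj W => g.left x) h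
    rw [he x, he y]
    exact congrArg a.left (@Subsingleton.elim _ (inferInstanceAs (Subsingleton (PrimeSpectrum k))) _ _)
  haveI := hsub
  haveI : Nonempty (Sch W) := ⟨a.left (IsLocalRing.closedPoint k)⟩
  have h0 := topologicalKrullDim_zero_of_discreteTopology (Sch W)
  rw [hdim] at h0
  exact absurd h0 (by norm_num)

/-- Multiplication from the chord construction. -/
theorem exists_grpObj
    (hns : ∀ v : Fin 3 → AlgebraicClosure k, v ≠ 0 → MvPolynomial.aeval v (form W).1 = 0 →
      ∃ l, MvPolynomial.aeval v (MvPolynomial.pderiv l (form W).1) ≠ 0)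
    (hdim : topologicalKrullDim (Sch W) = 1) (o : 𝟙_ (Over (Spec (CommRingCat.of k))) ⟶ Obj W) :
    ∃ h : GrpObj (Obj W), h.one = o := by
  let X := Obj W
  haveI : IsProper X.hom := ‹IsProper (toBase W)›
  haveI : Smooth X.hom := ‹Smooth (toBase W)›
  haveI : Nonempty (Spec (CommRingCat.of k)) := inferInstanceAs (Nonempty (PrimeSpectrum k))
  haveI : ConnectedSpace (Spec (CommRingCat.of k)) := inferInstance
  haveI : GeometricallyIntegral X.hom := Groth.Agent.S7791.result (toBase W) o.left (Over.w o)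
  haveI : IsIntegral X.left := GeometricallyIntegral.isIntegral_of_subsingleton X.hom
  haveI : IsIntegral (X ⊗ X).left := by
    haveI := AbRigid.geometricallyIntegral_tensorObj X X
    haveI : Smooth (X ⊗ X).hom := by
      show Smooth (pullback.fst X.hom X.hom ≫ X.hom); infer_instance
    exact GeometricallyIntegral.isIntegral_of_subsingleton (X ⊗ X).hom
  haveI : IsProper (X ⊗ X).hom := by
    show IsProper (pullback.fst X.hom X.hom ≫ X.hom); infer_instance
  haveI : X.left.IsSeparated := ⟨by rw [← terminal.comp_from X.hom]; infer_instance⟩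
  haveI hdomX : IsDominant (X.left.fromSpecStalk (genericPoint X.left)) := by
    refine ⟨fun y => closure_mono ?_ (specializes_iff_mem_closure.1 (genericPoint_specializes y))⟩
    rintro _ rfl
    exact ⟨_, Scheme.fromSpecStalk_closedPoint⟩
  haveI hdomS : IsDominant ((X ⊗ X).left.fromSpecStalk (genericPoint (X ⊗ X).left)) := by
    refine ⟨fun y => closure_mono ?_ (specializes_iff_mem_closure.1 (genericPoint_specializes y))⟩
    rintro _ rfl
    exact ⟨_, Scheme.fromSpecStalk_closedPoint⟩
  obtain ⟨r, hr, hrt⟩ := exists_chord_hom W hns (X ⊗ X).hom (fst X X).left (snd X X).left (Over.w _) (Over.w _) (by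
    letI : Algebra k (X ⊗ X).left.functionField :=
      (Curve17.baseStalk (X ⊗ X).hom (genericPoint (X ⊗ X).left)).hom.toAlgebra
    have hstr : GrassLib.str k (X ⊗ X).left.functionField =
        (X ⊗ X).left.fromSpecStalk (genericPoint (X ⊗ X).left) ≫ (X ⊗ X).hom := Curve17.SpecMap_baseStalk _ _
    obtain ⟨i, v, hi, hv, h1⟩ := exists_point (R := (X ⊗ X).left.functionField) W
      ((X ⊗ X).left.fromSpecStalk (genericPoint (X ⊗ X).left) ≫ (fst X X).left)
      (by rw [Category.assoc]; exact (congrArg (_ ≫ ·) (Over.w (fst X X))).trans hstr.symm)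
    obtain ⟨j, w, hj, hw, h2⟩ := exists_point (R := (X ⊗ X).left.functionField) W
      ((X ⊗ X).left.fromSpecStalk (genericPoint (X ⊗ X).left) ≫ (snd X X).left)
      (by rw [Category.assoc]; exact (congrArg (_ ≫ ·) (Over.w (snd X X))).trans hstr.symm)
    rw [h1, h2]
    refine chord_of_res_ne_zero W hi hv hj hw fun h0 => ?_
    have hvw : ∀ m, v m = v j * w m := fun m => by
      by_contra hne
      exact res_ne_zero _ hv hw (i := m) (j := j) (by rwa [hj, mul_one]) h0
    have h12 := h1.trans ((pointOf_change W hi hj hv hw hvw).trans h2.symm)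
    have hfs : fst X X = snd X X := Over.OverMorphism.ext
      (ext_of_isDominant_of_isSeparated (terminal.from _) (terminal.hom_ext _ _) _ h12)
    refine not_const W hdim o ?_
    have := congrArg (lift (𝟙 X) (toUnit X ≫ o) ≫ ·) hfs
    exact (lift_fst _ _).symm.trans (this.trans (lift_snd _ _)))
  let ρ : X ⊗ X ⟶ X := Over.homMk r hr
  have htwice : lift (toUnit X ≫ o) (lift (toUnit X ≫ o) (𝟙 X) ≫ ρ) ≫ ρ = 𝟙 X ∧
      lift (toUnit X ≫ o) (lift (𝟙 X) (toUnit X ≫ o) ≫ ρ) ≫ ρ = 𝟙 X := by
    letI : Algebra k X.left.functionField := (Curve17.baseStalk X.hom (genericPoint X.left)).hom.toAlgebra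
    let η := X.left.fromSpecStalk (genericPoint X.left)
    have hstr : GrassLib.str k X.left.functionField = η ≫ X.hom := Curve17.SpecMap_baseStalk _ _
    let L := X.left.functionField
    obtain ⟨i, v₀, hi, hv₀, ho⟩ := exists_point (R := k) W o.left (by rw [str_self]; exact Over.w o)
    obtain ⟨j, w, hj, hw, h2⟩ := exists_point (R := L) W η hstr.symm
    let φ : k →ₐ[k] L := Algebra.ofId k L
    have hφo : η ≫ (toUnit X ≫ o).left =
        pointOf W i (φ ∘ v₀) (show φ (v₀ i) = 1 by rw [hi, map_one]) (F_comp W φ hv₀) := by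
      rw [← sp_pointOf W φ i v₀ hi hv₀, ← ho, Over.comp_left, ← Category.assoc]
      exact congrArg (· ≫ o.left) hstr.symm
    have hD : D (WR W L) (φ ∘ v₀) w ≠ 0 := by
      intro hD
      obtain ⟨l, q, hl, hq, c, hc⟩ := exists_rational_of_tangent W hns hi hv₀ hw hD
      refine not_const W hdim (Over.homMk (pointOf W l q hl hq) (by
        show pointOf W l q hl hq ≫ toBase W = 𝟙 _
        rw [pointOf_toBase, str_self])) (Over.OverMorphism.ext
          (ext_of_isDominant_of_isSeparated (terminal.from _) (terminal.hom_ext _ _) η ?_))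
      have hql : (φ ∘ q) l = 1 := by simp [hl]
      have hwl : c = w l := by rw [hc]; simp [hl]
      have e := pointOf_change W hj hql hw (F_comp W φ hq) fun m => by rw [← hwl, hc]; rfl
      refine (Category.comp_id η).trans ?_
      refine h2.trans (e.trans ((sp_pointOf W φ l q hl hq).symm.trans ?_))
      rw [Over.comp_left, ← Category.assoc]
      exact congrArg (· ≫ pointOf W l q hl hq) hstr
    obtain ⟨Q, hQ⟩ := chord_of_res_ne_zero W (v := φ ∘ v₀) (show φ (v₀ i) = 1 by rw [hi, map_one])
        (F_comp W φ hv₀) hj hw fun h0 => by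
      have h3 := res_res (WR W L) (w := w) (F_comp W φ hv₀)
      rw [h0, show res (WR W L) (φ ∘ v₀) 0 = 0 from funext fun m => by simp [res, D, G]] at h3
      have := congrFun h3 j
      simp [hj, hD] at this
    have h3 := hQ.third W hD
    rw [← hφo, ← h2] at hQ h3
    have hev : ∀ (a b : X ⟶ X) (Q : Spec (CommRingCat.of L) ⟶ Sch W), Chord W (η ≫ a.left) (η ≫ b.left) Q →
        η ≫ (lift a b ≫ ρ).left = Q := fun a b Q hQ => by
      rw [Over.comp_left, ← Category.assoc]
      refine hrt L (η ≫ (lift a b).left) ?_ Q ?_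
      · rw [Category.assoc, Over.w]; exact hstr.symm
      · rwa [Category.assoc, Category.assoc, ← Over.comp_left, ← Over.comp_left, lift_fst, lift_snd]
    have hid : η ≫ (𝟙 X : X ⟶ X).left = η := Category.comp_id η
    constructor
    · refine Over.OverMorphism.ext (ext_of_isDominant_of_isSeparated (terminal.from _) (terminal.hom_ext _ _) η ?_)
      rw [hev _ _ η ?_, hid]
      rwa [hev _ _ Q (by rwa [hid])]
    · refine Over.OverMorphism.ext (ext_of_isDominant_of_isSeparated (terminal.from _) (terminal.hom_ext _ _) η ?_)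
      rw [hev _ _ η ?_, hid]
      rwa [hev _ _ Q (by rw [hid]; exact hQ.symm W)]
  let m : X ⊗ X ⟶ X := lift (toUnit (X ⊗ X) ≫ o) ρ ≫ ρ
  have hcomp : ∀ a : X ⟶ X ⊗ X, a ≫ m = lift (toUnit X ≫ o) (a ≫ ρ) ≫ ρ := fun a => by
    show a ≫ lift _ _ ≫ ρ = _
    rw [← Category.assoc, comp_lift, ← Category.assoc a, comp_toUnit]
  obtain ⟨h, hh, -⟩ := Groth.Agent.S7787.result X o m
    ((hcomp _).trans htwice.2) ((hcomp _).trans htwice.1)
  exact ⟨h, hh⟩

end law

end Groth.Agent.GroupLaw17
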