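import Groth.Agent.Lib.GroupLaw17.Cubic
import Groth.Agent.Lib.WeierModel17.Poly
import Groth.Agent.Lib.PlaneFF17.Smooth
import Groth.Agent.Lib.Grass.ProjPts
import Mathlib.RingTheory.Nullstellensatz

/-!
# Points of a plane Weierstrass cubic with values in a local ring
-/

set_option linter.style.haveILetI false
set_option autoImplicit false
set_option maxHeartbeats 800000
set_option backward.isDefEq.respectTransparency false
set_option backward.isDefEq.respectTransparency.types false

universe u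

open CategoryTheory CategoryTheory.Limits AlgebraicGeometry TopologicalSpace MvPolynomial

noncomputable section

namespace Groth.Agent.GroupLaw17

attribute [local instance] MvPolynomial.gradedAlgebra

variable {k : Type u} [Field k] (W : WeierstrassCurve k)

/-- The form of the cubic. -/
abbrev form : LefPen.Form 2 k 3 := WeierModel17.wForm W.a₁ W.a₂ W.a₃ W.a₄ W.a₆

/-- The cubic. -/
abbrev Sch : Scheme.{u} := (LefPen.hypIdeal (form W)).subscheme

/-- The embedding. -/
abbrev emb : Sch W ⟶ CohB1.ProjSpace 2 k := (LefPen.hypIdeal (form W)).subschemeι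

/-- The structure morphism. -/
abbrev toBase : Sch W ⟶ Spec (CommRingCat.of k) := emb W ≫ CohB1.ProjSpace.toSpec 2 k

variable {R : Type u} [CommRing R] [Algebra k R]

/-- The cubic over an algebra. -/
abbrev WR (R : Type u) [CommRing R] [Algebra k R] : WeierstrassCurve R := W.map (algebraMap k R)

theorem aeval_eq_F (v : Fin 3 → R) : aeval v (form W).1 = F (WR W R) v := by
  show aeval v (WeierModel17.wPoly _ _ _ _ _) = _
  rw [WeierModel17.aeval_wPoly]
  simp [F]

theorem aeval_pderiv_eq_G (v : Fin 3 → R) (l : Fin 3) :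
    aeval v (pderiv l (form W).1) = G (WR W R) v l := by
  show aeval v (pderiv l (WeierModel17.wPoly _ _ _ _ _)) = _
  fin_cases l <;> simp [WeierModel17.wPoly, G] <;> ring

theorem chartEqs_aeval (j : Fin 3) (v : Fin 3 → R) (hj : v j = 1) (hF : F (WR W R) v = 0) :
    ∀ a ∈ Ideal.span (Set.range (PlaneFF17.chartEqs (form W) j)), aeval v a = 0 := by
  intro a ha
  have hle : Ideal.span (Set.range (PlaneFF17.chartEqs (form W) j)) ≤ RingHom.ker (aeval (R := k) v).toRingHom :=
    Ideal.span_le.2 (by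
      rintro _ ⟨l, rfl⟩
      fin_cases l
      · exact (aeval_eq_F W v).trans hF
      · show aeval v (X j - 1) = 0
        simp [hj])
  exact hle ha

/-- The ring map of a point. -/
def ptHom (j : Fin 3) (v : Fin 3 → R) (hj : v j = 1) (hF : F (WR W R) v = 0) :
    LefPen13.A (emb W) j →ₐ[k] R :=
  AlgHom.comp
    (Ideal.Quotient.liftₐ (Ideal.span (Set.range (PlaneFF17.chartEqs (form W) j))) (aeval v)
      (chartEqs_aeval W j v hj hF))
    (PlaneFF17.chartEquiv (form W) j).symm.toAlgHom

theorem ptHom_chartAlgHom (j : Fin 3) (v : Fin 3 → R) (hj : v j = 1) (hF : F (WR W R) v = 0)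
    (P : MvPolynomial (Fin 3) k) : ptHom W j v hj hF (PlaneFF17.chartAlgHom (form W) j P) = aeval v P := by
  show Ideal.Quotient.liftₐ _ (aeval v) (chartEqs_aeval W j v hj hF) ((PlaneFF17.chartEquiv (form W) j).symm (PlaneFF17.chartAlgHom (form W) j P)) = _
  rw [← PlaneFF17.chartEquiv_mk, AlgEquiv.symm_apply_apply]
  rfl

/-- The point with given normalised coordinates. -/
def pointOf (j : Fin 3) (v : Fin 3 → R) (hj : v j = 1) (hF : F (WR W R) v = 0) :
    Spec (CommRingCat.of R) ⟶ Sch W :=
  GrassLib.sp (ptHom W j v hj hF) ≫ (LefPen13.isAffineOpen_V (emb W) j).fromSpec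

theorem pointOf_toBase (j : Fin 3) (v : Fin 3 → R) (hj : v j = 1) (hF : F (WR W R) v = 0) :
    pointOf W j v hj hF ≫ toBase W = GrassLib.str k R := by
  rw [pointOf, Category.assoc, LefPen13.fromSpec_toSpec_V]
  exact GrassLib.sp_str _

theorem pointOf_emb (j : Fin 3) (v : Fin 3 → R) (hj : v j = 1) (hF : F (WR W R) v = 0) :
    pointOf W j v hj hF ≫ emb W = GrassLib.vecMor (R := k) j v := by
  have hX := ProjSpace.X_mem' 2 k j
  have hU := Bertini13.isAffineOpen_V (k := k) j
  have h1 : hU.fromSpec = Spec.map (Proj.awayToSection (CohB1.polyGrading 2 k) (X j)) ≫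
      Proj.awayι (CohB1.polyGrading 2 k) (X j) hX Nat.one_pos := by
    rw [← cancel_epi hU.isoSpec.hom]
    rw [IsAffineOpen.isoSpec_hom_fromSpec, ← Category.assoc]
    have : hU.isoSpec.hom ≫ Spec.map (Proj.awayToSection (CohB1.polyGrading 2 k) (X j)) =
        (Proj.basicOpenIsoSpec (CohB1.polyGrading 2 k) (X j) hX Nat.one_pos).hom := by
      rw [Proj.basicOpenIsoSpec_hom, IsAffineOpen.isoSpec_hom]
      rfl
    exact (((congrArg (· ≫ Proj.awayι (CohB1.polyGrading 2 k) (X j) hX Nat.one_pos) this).trans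
      (Iso.hom_inv_id_assoc _ _))).symm
  rw [pointOf, Category.assoc, ← hU.SpecMap_appLE_fromSpec (emb W) (LefPen13.isAffineOpen_V (emb W) j) le_rfl,
    h1, GrassLib.vecMor_eq_awayHom, ← Category.assoc, ← Category.assoc]
  congr 1
  rw [GrassLib.sp, ← Spec.map_comp, ← Spec.map_comp]
  congr 1
  refine CommRingCat.hom_ext (RingHom.ext fun z => ?_)
  obtain ⟨m, a, ha, rfl⟩ := HomogeneousLocalization.Away.mk_surjective (CohB1.polyGrading 2 k) hX z
  refine Eq.trans ?_ (GrassLib.awayHom_mk (R := k) j v hj m a ha).symm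
  have h2 : ProjSpace.toAway k j (ProjSpace.dehom k j a) =
      HomogeneousLocalization.Away.mk (CohB1.polyGrading 2 k) hX m a ha :=
    (congrArg _ (ProjSpace.ofAway_mk k j m a ha)).symm.trans (ProjSpace.toAway_ofAway k j _)
  rw [← h2, ← ptHom_chartAlgHom W j v hj hF a, ← Scheme.Hom.app_eq_appLE]
  rfl

/-- Proportional coordinates give the same point. -/
theorem pointOf_change {i j : Fin 3} {v w : Fin 3 → R} (hi : v i = 1) (hj : w j = 1) (hv : F (WR W R) v = 0)
    (hw : F (WR W R) w = 0) (h : ∀ l, v l = v j * w l) : pointOf W i v hi hv = pointOf W j w hj hw := by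
  rw [← cancel_mono (emb W), pointOf_emb, pointOf_emb]
  exact GrassLib.vecMor_change hi hj h

theorem F_comp {S : Type u} [CommRing S] [Algebra k S] (φ : R →ₐ[k] S) {v : Fin 3 → R} (hF : F (WR W R) v = 0) :
    F (WR W S) (φ ∘ v) = 0 := by
  rw [← aeval_eq_F, show (φ ∘ v : Fin 3 → S) = fun l => φ (v l) from rfl, ← comp_aeval, AlgHom.comp_apply,
    aeval_eq_F, hF, map_zero]

theorem sp_pointOf {S : Type u} [CommRing S] [Algebra k S] (φ : R →ₐ[k] S) (j : Fin 3) (v : Fin 3 → R)
    (hj : v j = 1) (hF : F (WR W R) v = 0) :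
    GrassLib.sp φ ≫ pointOf W j v hj hF =
      pointOf W j (φ ∘ v) (show φ (v j) = 1 by rw [hj, map_one]) (F_comp W φ hF) := by
  rw [pointOf, ← Category.assoc, ← GrassLib.sp_comp, pointOf]
  congr 2
  refine AlgHom.ext fun a => ?_
  obtain ⟨P, rfl⟩ := PlaneFF17.chartAlgHom_surjective (form W) j a
  rw [AlgHom.comp_apply, ptHom_chartAlgHom, ptHom_chartAlgHom, show (φ ∘ v : Fin 3 → S) = fun l => φ (v l) from rfl,
    ← comp_aeval]
  rfl

/-- Every point with values in a local ring has normalised coordinates. -/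
theorem exists_point [IsLocalRing R] (g : Spec (CommRingCat.of R) ⟶ Sch W) (hg : g ≫ toBase W = GrassLib.str k R) :
    ∃ (j : Fin 3) (v : Fin 3 → R) (hj : v j = 1) (hF : F (WR W R) v = 0), g = pointOf W j v hj hF := by
  obtain ⟨j, hjm⟩ := Opens.mem_iSup.1
    ((LefPen13.iSup_V (emb W)).ge (Set.mem_univ (g (IsLocalRing.closedPoint R))))
  have hV := LefPen13.isAffineOpen_V (emb W) j
  have hr : Set.range g ⊆ Set.range hV.fromSpec := by
    rw [hV.range_fromSpec]
    rintro _ ⟨q, rfl⟩
    exact ((IsLocalRing.specializes_closedPoint q).map g.continuous).mem_open (LefPen13.V (emb W) j).2 hjm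
  let g' := IsOpenImmersion.lift hV.fromSpec g hr
  have hg' : g' ≫ hV.fromSpec = g := IsOpenImmersion.lift_fac _ _ hr
  obtain ⟨φ, hφ⟩ := GrassLib.exists_sp (R := k) (A := LefPen13.A (emb W) j) (B := R) (g := g')
    ((congrArg (g' ≫ ·) (LefPen13.fromSpec_toSpec_V (emb W) j)).symm.trans
      ((Category.assoc _ _ _).symm.trans ((congrArg (· ≫ toBase W) hg').trans hg)))
  let v : Fin 3 → R := fun l => φ (PlaneFF17.chartAlgHom (form W) j (X l))
  have hjv : v j = 1 := by
    show φ (LefPen13.π (emb W) j (X j)) = 1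
    rw [LefPen13.π_X_self, map_one]
  have hcomp : φ.comp (PlaneFF17.chartAlgHom (form W) j) = aeval v := MvPolynomial.algHom_ext fun l => by simp [v]
  have hF : F (WR W R) v = 0 := by
    rw [← aeval_eq_F, ← hcomp, AlgHom.comp_apply]
    have h0 : (form W).1 ∈ RingHom.ker (PlaneFF17.chartAlgHom (form W) j).toRingHom := by
      rw [PlaneFF17.ker_chartAlgHom]
      exact Ideal.subset_span ⟨0, rfl⟩
    rw [show PlaneFF17.chartAlgHom (form W) j (form W).1 = 0 from h0, map_zero]
  refine ⟨j, v, hjv, hF, ?_⟩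
  rw [← hg', ← hφ, pointOf]
  congr 2
  refine AlgHom.ext fun a => ?_
  obtain ⟨P, rfl⟩ := PlaneFF17.chartAlgHom_surjective (form W) j a
  rw [ptHom_chartAlgHom, ← hcomp]
  rfl

/-- Nonsingular over the algebraic closure, hence over every field. -/
theorem exists_G_ne_zero
    (hns : ∀ v : Fin 3 → AlgebraicClosure k, v ≠ 0 → aeval v (form W).1 = 0 → ∃ l, aeval v (pderiv l (form W).1) ≠ 0)
    {L : Type u} [Field L] [Algebra k L] (x : Fin 3 → L) (hx : x ≠ 0) (hF : F (WR W L) x = 0) :
    ∃ l, G (WR W L) x l ≠ 0 := by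
  by_contra hcon
  push Not at hcon
  let I : Ideal (MvPolynomial (Fin 3) k) :=
    Ideal.span (Set.range fun o : Option (Fin 3) => o.elim (form W).1 fun l => pderiv l (form W).1)
  have hIx : I ≤ RingHom.ker (aeval (R := k) x).toRingHom := Ideal.span_le.2 (by
    rintro _ ⟨_ | l, rfl⟩
    · exact (aeval_eq_F W x).trans hF
    · exact (aeval_pderiv_eq_G W x l).trans (hcon l))
  refine hx (funext fun m => ?_)
  have hm : (X m : MvPolynomial (Fin 3) k) ∈ I.radical := by
    rw [← vanishingIdeal_zeroLocus_eq_radical (K := AlgebraicClosure k) I, mem_vanishingIdeal_iff]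
    intro y hy
    rw [mem_zeroLocus_iff] at hy
    have hy0 : y = 0 := by
      by_contra hne
      obtain ⟨l, hl⟩ := hns y hne (hy _ (Ideal.subset_span ⟨none, rfl⟩))
      exact hl (hy _ (Ideal.subset_span ⟨some l, rfl⟩))
    simp [hy0]
  obtain ⟨n, hn⟩ := hm
  have := hIx hn
  rw [RingHom.mem_ker] at this
  exact eq_zero_of_pow_eq_zero (show x m ^ n = 0 by simpa using this)

end Groth.Agent.GroupLaw17
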